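import Groth.Agent.ResProp.EF.K595.Bridge

/-!
# Saturation of `T`, surjectivity of `T(R) → T(R')` (K65/Defs.lean)
-/

set_option autoImplicit false
set_option linter.unusedSectionVars false
open MvPolynomial

namespace Groth.Agent.ResProp.EF.K595

universe u

variable {R : Type u} [CommRing R]

/-- `Inv` may be tested on the generic matrix with a generic `c`. -/
lemma inv_of_generic {r N : ℕ} {a : ℕ} {f : K65.P r N R}
    (h : ∀ i j : Fin r, i < j → a ≤ j →
      K65.ev (S := Polynomial (K65.P r N R)) (((K65.gen r N R).map Polynomial.C).updateRow j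
        (((K65.gen r N R).map Polynomial.C) j + (Polynomial.X : Polynomial (K65.P r N R)) •
          ((K65.gen r N R).map Polynomial.C) i)) f = Polynomial.C f) : K65.Inv a f := by
  intro S _ _ Y c i j hij ha
  let ψ : Polynomial (K65.P r N R) →ₐ[R] S :=
    { Polynomial.eval₂RingHom (K65.ev Y : K65.P r N R →ₐ[R] S).toRingHom c with
      commutes' := fun x => by
        change Polynomial.eval₂ (K65.ev Y : K65.P r N R →ₐ[R] S).toRingHom c (Polynomial.C (algebraMap R _ x)) = _
        rw [Polynomial.eval₂_C]
        exact (K65.ev Y).commutes x }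
  have hψC : ∀ g : K65.P r N R, ψ (Polynomial.C g) = K65.ev Y g := fun g => Polynomial.eval₂_C _ _
  have hψX : ψ Polynomial.X = c := Polynomial.eval₂_X _ _
  have h1 := congrArg ψ (h i j hij ha)
  rw [hψC] at h1
  rw [← h1]
  have h2 : ψ.comp (K65.ev (S := Polynomial (K65.P r N R)) (((K65.gen r N R).map Polynomial.C).updateRow j
        (((K65.gen r N R).map Polynomial.C) j + (Polynomial.X : Polynomial (K65.P r N R)) •
          ((K65.gen r N R).map Polynomial.C) i))) = K65.ev (Y.updateRow j (Y j + c • Y i)) := by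
    refine MvPolynomial.algHom_ext fun kl => ?_
    obtain ⟨k, l⟩ := kl
    simp only [AlgHom.comp_apply, K65.ev, aeval_X]
    by_cases hk : k = j
    · subst hk
      simp only [Matrix.updateRow_self, Pi.add_apply, Pi.smul_apply, Matrix.map_apply, smul_eq_mul, map_add, map_mul,
        hψC, hψX, K65.gen, Matrix.of_apply, K65.ev, aeval_X]
    · rw [Matrix.updateRow_ne hk, Matrix.updateRow_ne hk, Matrix.map_apply, hψC]
      simp [K65.ev, K65.gen]
  exact (AlgHom.congr_fun h2 f).symm

/-- saturation -/
theorem isT_of_smul {m q : ℕ} {f : K65.P m (m + 1) R} {p : R} (hp : IsSMulRegular R p) (hf : K65.IsT q (p • f)) :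
    K65.IsT q f := by
  refine ⟨fun e he => hf.1 fun h0 => he ?_, inv_of_generic fun i j hij ha => ?_⟩
  · rw [coeff_smul] at h0
    exact hp (by simpa using h0)
  · have h := hf.2 (Polynomial (K65.P m (m + 1) R)) ((K65.gen m (m + 1) R).map Polynomial.C) Polynomial.X i j hij ha
    have hpoly : Function.Injective fun g : Polynomial (K65.P m (m + 1) R) => p • g := by
      intro g g' hg
      ext n e
      have := congrArg (fun G => coeff e (Polynomial.coeff G n)) hg
      simp only [Polynomial.coeff_smul, coeff_smul] at this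
      exact hp this
    apply hpoly
    have h3 : K65.ev ((K65.gen m (m + 1) R).map Polynomial.C) f = Polynomial.C f := by
      have : K65.ev (S := Polynomial (K65.P m (m + 1) R)) ((K65.gen m (m + 1) R).map Polynomial.C) =
          (Polynomial.CAlgHom (R := R) (A := K65.P m (m + 1) R)) := by
        refine MvPolynomial.algHom_ext fun kl => ?_
        simp [K65.ev, K65.gen]
      rw [this]; rfl
    simp only [map_smul] at h
    change p • _ = p • _
    rw [h, h3]

/-- lifting of multihomogeneous functions -/
lemma exists_lift {R' : Type u} [CommRing R'] (φ : R →+* R') (hφ : Function.Surjective φ) {r N : ℕ} {μ : Fin r → ℕ}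
    (f' : K65.P r N R') (hf' : K65.MH μ f') : ∃ f : K65.P r N R, K65.MH μ f ∧ map φ f = f' := by
  classical
  choose g hg using hφ
  refine ⟨∑ e ∈ f'.support, monomial e (g (coeff e f')), ?_, ?_⟩
  · refine IsWeightedHomogeneous.sum _ _ _ fun e he => ?_
    exact isWeightedHomogeneous_monomial _ _ _ (hf' (mem_support_iff.1 he))
  · rw [map_sum]
    conv_rhs => rw [f'.as_sum]
    refine Finset.sum_congr rfl fun e _ => ?_
    rw [map_monomial, hg]

lemma map_Edet {k : ℕ} {R' : Type u} [CommRing R'] (φ : R →+* R') (q : ℕ) (f : Fn k R) :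
    map φ (Edet q f) = Edet q (map φ f) := by
  let _ := φ.toAlgebra
  let _ : Algebra R (Fn k R') := ((algebraMap R' (Fn k R')).comp φ).toAlgebra
  have h1 : ∀ f : Fn k R, ev (R := R) (S := Fn k R') (gen k R') f = map φ f := by
    intro f
    induction f using MvPolynomial.induction_on with
    | C a =>
      rw [← MvPolynomial.algebraMap_eq, AlgHom.commutes, MvPolynomial.algebraMap_eq, map_C]; rfl
    | add f g hf hg => rw [map_add, map_add, hf, hg]
    | mul_X f i hf => rw [map_mul, map_mul, hf]; simp [gen]
  rw [← h1, ev_Edet]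
  have h2 := ev_Edet (R := R') (S := Fn k R') q (map φ f) (gen k R')
  have h3 : ev (R := R') (S := Fn k R') (gen k R') = AlgHom.id R' _ := by
    refine MvPolynomial.algHom_ext fun ij => ?_
    simp [gen]
  rw [h3, AlgHom.id_apply] at h2
  rw [h2]
  clear h2
  have h4 : ev (R := R) (rowsX (gen k R')) f = ev (R := R') (rowsX (gen k R')) (map φ f) := by
    clear h1
    induction f using MvPolynomial.induction_on with
    | C a =>
      rw [map_C, ← MvPolynomial.algebraMap_eq, ← MvPolynomial.algebraMap_eq, AlgHom.commutes, AlgHom.commutes]; rfl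
    | add f g hf hg => rw [map_add, map_add, map_add, hf, hg]
    | mul_X f i hf => rw [map_mul, map_mul, map_mul, hf, map_X, ev_X, ev_X]
  rw [h4]

/-- `E` commutes with ring homomorphisms. -/
theorem map_EE {m : ℕ} {R' : Type u} [CommRing R'] (φ : R →+* R') (q : ℕ) (f : K65.P m (m + 1) R) :
    map φ (K65.EE q f) = K65.EE q (map φ f) := by
  cases m with
  | zero =>
    obtain ⟨c, rfl⟩ : ∃ c, f = C c := ⟨coeff 0 f, eq_C_of_isEmpty f⟩
    rw [EE_zero, map_C, EE_zero]
  | succ k => rw [EE_eq, EE_eq, map_Edet]

theorem map_EE_pow {m : ℕ} {R' : Type u} [CommRing R'] (φ : R →+* R') (q n : ℕ) (f : K65.P m (m + 1) R) :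
    map φ ((K65.EE q ^ n) f) = (K65.EE q ^ n) (map φ f) := by
  induction n with
  | zero => rfl
  | succ n ih => rw [pow_succ', pow_succ', Module.End.mul_apply, Module.End.mul_apply, map_EE, ih]

/-- `E^m` maps everything of the right row degrees into `T`, over every ring. -/
theorem isT_pow {m q : ℕ} {f : K65.P m (m + 1) R} (hf : K65.MH (K65.mu m q) f) : K65.IsT q ((K65.EE q ^ m) f) := by
  have h : ∀ n, n ≤ m → K65.MH (K65.mu m q) ((K65.EE q ^ n) f) ∧ K65.Inv (m - n) ((K65.EE q ^ n) f) := by
    intro n
    induction n with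
    | zero => exact fun _ => ⟨hf, fun S _ _ Y c i j _ ha => absurd ha (by have := j.2; omega)⟩
    | succ n ih =>
      intro hn
      obtain ⟨h1, h2⟩ := ih (by omega)
      rw [pow_succ', Module.End.mul_apply]
      have h3 := T2 R m q _ h1
      refine ⟨h3.1, h3.2 _ ?_⟩
      have : m - (n + 1) + 1 = m - n := by omega
      rwa [this]
  have := h m le_rfl
  rw [Nat.sub_self] at this
  exact this

/-- `T(R) → T(R')` is onto the elements fixed by `E^m`. -/
theorem isT_lift {R' : Type u} [CommRing R'] (φ : R →+* R') (hφ : Function.Surjective φ) {m q : ℕ}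
    {f' : K65.P m (m + 1) R'} (hf' : K65.IsT q f') (hE : (K65.EE q ^ m) f' = f') :
    ∃ f : K65.P m (m + 1) R, K65.IsT q f ∧ map φ f = f' := by
  obtain ⟨f, hf, hm⟩ := exists_lift φ hφ f' hf'.1
  exact ⟨(K65.EE q ^ m) f, isT_pow hf, by rw [map_EE_pow, hm, hE]⟩

end Groth.Agent.ResProp.EF.K595
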