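import Groth.Agent.ResProp.EF.K595.Edet
import Groth.Agent.ResProp.EF.K65.Defs
import Groth.Agent.ResProp.EF.K433.Tau

/-!
# Nodes T1 and T2 of `K65/Defs.lean`
-/

set_option autoImplicit false
set_option linter.unusedSectionVars false
open MvPolynomial

namespace Groth.Agent.ResProp.EF.K595

universe u

variable {k : ℕ} {R : Type u} [CommRing R] {S : Type u} [CommRing S] [Algebra R S]

lemma ev_eq {k : ℕ} {R : Type u} [CommRing R] {S : Type u} [CommRing S] [Algebra R S]
    (A : Matrix (Fin (k + 1)) (Fin (k + 2)) S) (f : Fn k R) : K65.ev A f = ev A f := rfl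

lemma split_det : (K65.split (R := R) (K65.gen (k + 2) (k + 2) R).det) = detX (gen k R) := by
  rw [AlgHom.map_det, detX]
  congr 1
  ext1 i j
  refine Fin.cases ?_ (fun i => ?_) i
  · simp [K65.split, K65.ev, K65.gen, K65.consRow] <;> rfl
  · simp [K65.split, K65.ev, K65.gen, K65.consRow, gen] <;> rfl

lemma split_incl (f : Fn k R) : K65.split (K65.incl f) = ev (rowsX (gen k R)) f := by
  have h : (K65.split (R := R)).comp (K65.incl (r := k + 1) (N := k + 2)) = ev (rowsX (gen k R)) := by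
    refine MvPolynomial.algHom_ext fun ij => ?_
    obtain ⟨i, j⟩ := ij
    refine Fin.cases ?_ (fun i => ?_) i
    · simp [K65.split, K65.incl, K65.ev, K65.gen, K65.consRow] <;> rfl
    · have : (i.succ.castSucc : Fin (k + 2)) = i.castSucc.succ := by ext; simp
      simp [K65.split, K65.incl, K65.ev, K65.gen, K65.consRow, gen, this] <;> rfl
  exact AlgHom.congr_fun h f

/-- The operator of `K65` is `Edet`. -/
lemma EE_eq (q : ℕ) (f : Fn k R) : K65.EE q f = Edet q f := by
  change coeff (cst (k + 2) (q - 1)) (K65.split ((K65.gen (k + 2) (k + 2) R).det ^ (q - 1) * K65.incl f)) = _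
  rw [map_mul, map_pow, split_det, split_incl]
  rfl

lemma weight_wt (e : Fin (k + 1) × Fin (k + 2) →₀ ℕ) (i : Fin (k + 1)) :
    Finsupp.weight (K65.wt (k + 1) (k + 2)) e i = Finsupp.weight (rowW k i) e := by
  rw [Finsupp.weight_apply, Finsupp.weight_apply, Finsupp.sum_fintype _ _ (by simp),
    Finsupp.sum_fintype _ _ (by simp), Finset.sum_apply]
  refine Finset.sum_congr rfl fun ij _ => ?_
  by_cases h : ij.1 = i
  · subst h; simp [K65.wt, rowW]
  · simp [K65.wt, rowW, h, Ne.symm h]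

lemma MH_iff (μ : Fin (k + 1) → ℕ) (f : Fn k R) :
    K65.MH μ f ↔ ∀ i, IsWeightedHomogeneous (rowW k i) f (μ i) := by
  constructor
  · intro h i e he
    rw [← weight_wt, h he]
  · intro h e he
    funext i
    rw [weight_wt, h i he]

lemma MH_mu_iff (q : ℕ) (f : Fn k R) : K65.MH (K65.mu (k + 1) q) f ↔ MultiHom q f :=
  MH_iff _ _

lemma Inv_iff (a : ℕ) (f : Fn k R) : K65.Inv a f ↔ InvFrom a f := by
  constructor
  · intro h i j hij ha S _ _ Y c
    exact h S Y c i j hij ha
  · intro h S _ _ Y c i j hij ha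
    exact h i j hij ha S Y c

/-- **(T2)** -/
theorem T2 : K65.T2.{u} := by
  intro R _ m q f hf
  cases m with
  | zero =>
    refine ⟨fun e _ => Subsingleton.elim _ _, fun a _ S _ _ Y c i => i.elim0⟩
  | succ k =>
    rw [EE_eq]
    exact ⟨(MH_mu_iff q _).2 (MultiHom.Edet' ((MH_mu_iff q f).1 hf)),
      fun a ha => (Inv_iff a _).2 (invFrom_Edet ((Inv_iff (a + 1) f).1 ha))⟩

lemma tauEquiv_of_T0 {p : ℕ} (h : K65.T0.{u} p) (s : ℕ) (S : Type u) [CommRing S] [CharP S p] :
    TauEquiv S (p ^ s) := fun N g f hf => h S N s g f hf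

lemma EE_apply {m : ℕ} (q : ℕ) (f : K65.P m (m + 1) R) : K65.EE q f =
    coeff (K65.topE (m + 1) q) (K65.split ((K65.gen (m + 1) (m + 1) R).det ^ (q - 1) * K65.incl f)) := rfl

lemma split_det_zero : K65.split (R := R) (K65.gen (0 + 1) (0 + 1) R).det = X 0 := by
  have h : (K65.gen (0 + 1) (0 + 1) R).det = K65.gen (0 + 1) (0 + 1) R 0 0 := Matrix.det_fin_one _
  rw [h]
  simp [K65.split, K65.ev, K65.gen, K65.consRow] <;> rfl

lemma split_C {r N : ℕ} (c : R) : K65.split (R := R) (r := r) (N := N) (C c) = C (C c) := by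
  rw [← MvPolynomial.algebraMap_eq, AlgHom.commutes]
  rfl

lemma incl_C {r N : ℕ} (c : R) : K65.incl (R := R) (r := r) (N := N) (C c) = C c := by
  rw [← MvPolynomial.algebraMap_eq, AlgHom.commutes]
  rfl

lemma topE_one (q : ℕ) : K65.topE (0 + 1) q = Finsupp.single 0 (q - 1) := by
  ext i
  rw [show i = 0 from Fin.fin_one_eq_zero i]
  simp [K65.topE]

lemma EE_zero (q : ℕ) (c : R) : K65.EE q (C c : K65.P 0 (0 + 1) R) = C c := by
  rw [EE_apply, map_mul, map_pow, split_det_zero, incl_C, split_C, mul_comm, coeff_C_mul, topE_one,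
    X_pow_eq_monomial, coeff_monomial, if_pos rfl, mul_one]

/-- **(T1)** -/
theorem T1_of_T0 {p : ℕ} [Fact p.Prime] (hT0 : K65.T0.{0} p) : K65.T1.{u} p := by
  intro R _ _ m s f hf S _ _ Y
  cases m with
  | zero =>
    obtain ⟨c, rfl⟩ : ∃ c, f = C c := ⟨coeff 0 f, eq_C_of_isEmpty f⟩
    rw [EE_zero]
    rw [← MvPolynomial.algebraMap_eq, AlgHom.commutes, AlgHom.commutes, K65.tau, lcoeff_apply,
      MvPolynomial.algebraMap_apply, Subsingleton.elim (K65.topE 0 (p ^ s)) 0, coeff_zero_C]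
  | succ k =>
    have h0 := (MH_mu_iff _ f).1 hf 0
    have h1 : Edet (p ^ s) f = Etau (p ^ s) f :=
      Edet_eq_Etau (p := p) (tauEquiv_of_T0 hT0 s _) (by simpa using h0)
    rw [EE_eq, h1, ev_eq, ev_Etau]
    change coeff _ _ = coeff _ _
    congr 1
    have h2 : (((lin Y).restrictScalars R).comp (ev (rowsX Y)) : Fn k R →ₐ[R] _) = K65.ev (K65.shiftArg Y) := by
      refine MvPolynomial.algHom_ext fun ij => ?_
      obtain ⟨i, j⟩ := ij
      refine Fin.cases ?_ (fun i => ?_) i
      · simp [K65.ev, K65.shiftArg, lin]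
      · simp [K65.ev, K65.shiftArg, lin] <;> rfl
    exact AlgHom.congr_fun h2 f

/-- **(T0)**, from `K433/Tau.lean` -/
theorem T0 {p : ℕ} [Fact p.Prime] : K65.T0.{u} p := by
  intro S _ _ N s g f hf
  have hN : p ^ s - 1 + 1 = p ^ s := Nat.sub_add_cancel (Nat.one_le_pow _ _ (Fact.out : p.Prime).pos)
  have h := _root_.K433.Tau.tau_lsub p s hN g.transpose (h := f) (by simpa using hf)
  rw [Matrix.det_transpose] at h
  have h2 : _root_.K433.Tau.lsub g.transpose = K65.vact g := by
    refine MvPolynomial.algHom_ext fun i => ?_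
    simp [_root_.K433.Tau.lsub, K65.vact, mul_comm]
  rw [h2] at h
  exact h

/-- **(T1)** -/
theorem T1 {p : ℕ} [Fact p.Prime] : K65.T1.{u} p := T1_of_T0 T0

end Groth.Agent.ResProp.EF.K595
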