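import Mathlib.RingTheory.MvPolynomial.Homogeneous
import Mathlib.LinearAlgebra.Matrix.MvPolynomial
import Mathlib.Algebra.MvPolynomial.Equiv
import Mathlib.RingTheory.MvPolynomial.Basic
import Mathlib.Algebra.CharP.Algebra
import Mathlib.Algebra.Field.ZMod

/-!
# 1.4 (B) of departures/helper980.md, nodes N2 and N3
-/

set_option autoImplicit false
set_option linter.unusedSectionVars false
open MvPolynomial

namespace Groth.Agent.ResProp.EF.K595

universe u

variable {R : Type u} [CommRing R]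

/-- the constant exponent vector -/
noncomputable def cst (n a : ℕ) : Fin n →₀ ℕ := Finsupp.equivFunOnFinite.symm fun _ => a

@[simp] lemma cst_apply (n a : ℕ) (i : Fin n) : cst n a i = a := rfl

lemma cst_succ (m a : ℕ) : cst (m + 1) a = (cst m a).cons a := by
  ext i
  refine Fin.cases ?_ (fun j => ?_) i
  · simp [Finsupp.cons_zero]
  · simp [Finsupp.cons_succ]

/-- substitution of `∑ i, t_i g_i` (rows of `g`) in a function of one vector -/
noncomputable def lin {m n : ℕ} (g : Matrix (Fin m) (Fin n) R) :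
    MvPolynomial (Fin n) R →ₐ[R] MvPolynomial (Fin m) R :=
  aeval fun j => ∑ i, X i * C (g i j)

/-- `det(x, y_1, .., y_m)` -/
noncomputable def detX {m : ℕ} (y : Matrix (Fin m) (Fin (m + 1)) R) : MvPolynomial (Fin (m + 1)) R :=
  Matrix.det (Matrix.of (Fin.cons (fun j => X j) (fun i j => C (y i j)) :
    Fin (m + 1) → Fin (m + 1) → MvPolynomial (Fin (m + 1)) R))

/-- `det(x, y)` as Laplace expansion along the first row. -/
lemma detX_eq {m : ℕ} (y : Matrix (Fin m) (Fin (m + 1)) R) :
    detX y = ∑ j : Fin (m + 1), X j * C ((-1) ^ (j : ℕ) * (y.submatrix id j.succAbove).det) := by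
  rw [detX, Matrix.det_succ_row_zero]
  refine Finset.sum_congr rfl fun j _ => ?_
  have h : (Matrix.of (Fin.cons (fun j => X j) (fun i j => C (y i j)) :
      Fin (m + 1) → Fin (m + 1) → MvPolynomial (Fin (m + 1)) R)).submatrix Fin.succ j.succAbove
      = (C : R →+* MvPolynomial (Fin (m + 1)) R).mapMatrix (y.submatrix id j.succAbove) := by
    ext i k
    simp
  rw [h, ← RingHom.map_det]
  simp only [Matrix.of_apply, Fin.cons_zero, C_mul, C_pow, C_neg, C_1]
  ring

lemma detX_isHomogeneous {m : ℕ} (y : Matrix (Fin m) (Fin (m + 1)) R) : (detX y).IsHomogeneous 1 := by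
  rw [detX_eq]
  refine IsHomogeneous.sum _ _ _ fun j _ => ?_
  have := (isHomogeneous_X R j).mul (isHomogeneous_C (Fin (m + 1)) ((-1) ^ (j : ℕ) * (y.submatrix id j.succAbove).det))
  simpa using this

/-- the matrix with rows `w, y_1, .., y_m` -/
def consRow {m : ℕ} (w : Fin (m + 1) → R) (y : Matrix (Fin m) (Fin (m + 1)) R) :
    Matrix (Fin (m + 1)) (Fin (m + 1)) R :=
  Matrix.of (Fin.cons w y)

@[simp] lemma consRow_zero {m : ℕ} (w : Fin (m + 1) → R) (y : Matrix (Fin m) (Fin (m + 1)) R) (j : Fin (m + 1)) :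
    consRow w y 0 j = w j := rfl

@[simp] lemma consRow_succ {m : ℕ} (w : Fin (m + 1) → R) (y : Matrix (Fin m) (Fin (m + 1)) R) (i : Fin m)
    (j : Fin (m + 1)) : consRow w y i.succ j = y i j := rfl

/-- `det(x, y)` at `x = t_0 w + ∑ t_i y_i` is `t_0 det(w, y)`. -/
lemma lin_detX {m : ℕ} (w : Fin (m + 1) → R) (y : Matrix (Fin m) (Fin (m + 1)) R) :
    lin (consRow w y) (detX y) = X 0 * C (consRow w y).det := by
  rw [detX, AlgHom.map_det]
  set A := (lin (consRow w y)).mapMatrix (Matrix.of (Fin.cons (fun j => X j) (fun i j => C (y i j)) :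
    Fin (m + 1) → Fin (m + 1) → MvPolynomial (Fin (m + 1)) R)) with hA
  set B := (C : R →+* MvPolynomial (Fin (m + 1)) R).mapMatrix (consRow w y) with hB
  have h0 : A = B.updateRow 0 (∑ i, (X i : MvPolynomial (Fin (m + 1)) R) • B i) := by
    ext i j
    refine Fin.cases ?_ (fun k => ?_) i
    · simp [hA, hB, lin, Matrix.updateRow_self, Finset.sum_apply]
    · rw [Matrix.updateRow_ne (Fin.succ_ne_zero k)]
      simp [hA, hB, lin]
  rw [h0, Matrix.det_updateRow_sum, hB, ← RingHom.map_det]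
  simp

/-- the coefficient of `t_0^0 m` in `F(t_0 w + ∑ t_i y_i)` -/
lemma coeff_lin_cons_zero {m : ℕ} (w : Fin (m + 1) → R) (y : Matrix (Fin m) (Fin (m + 1)) R)
    (F : MvPolynomial (Fin (m + 1)) R) (e : Fin m →₀ ℕ) :
    coeff (e.cons 0) (lin (consRow w y) F) = coeff e (lin y F) := by
  rw [← finSuccEquiv_coeff_coeff]
  congr 1
  let ψ : MvPolynomial (Fin (m + 1)) R →ₐ[R] MvPolynomial (Fin m) R :=
    ((Polynomial.aeval (R := MvPolynomial (Fin m) R) (0 : MvPolynomial (Fin m) R)).restrictScalars R).comp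
      (finSuccEquiv R m).toAlgHom
  have h1 : ∀ G, (finSuccEquiv R m G).coeff 0 = ψ G := by
    intro G
    simp [ψ, Polynomial.coeff_zero_eq_aeval_zero]
  rw [h1]
  have h2 : ψ.comp (lin (consRow w y)) = lin y := by
    refine MvPolynomial.algHom_ext fun j => ?_
    have hC : ∀ a : R, finSuccEquiv R m (C a) = Polynomial.C (C a) := fun a => by
      simpa using (finSuccEquiv R m).commutes a
    simp [lin, ψ, Fin.sum_univ_succ, finSuccEquiv_X_zero, finSuccEquiv_X_succ, hC,
      Polynomial.eval_finsetSum]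
  rw [← h2]; rfl

/-- **Node N1**: the coefficient of `(t_1 .. t_n)^(q-1)` in degree `n(q-1)` is multiplied by `det(g)^(q-1)`. -/
def TauEquiv (R : Type u) [CommRing R] (q : ℕ) : Prop :=
  ∀ (n : ℕ) (g : Matrix (Fin n) (Fin n) R) (h : MvPolynomial (Fin n) R), h.IsHomogeneous (n * (q - 1)) →
    coeff (cst n (q - 1)) (lin g h) = g.det ^ (q - 1) * coeff (cst n (q - 1)) h

lemma det_pow_mul_tau {q m : ℕ} (hN1 : TauEquiv R q) (w : Fin (m + 1) → R) (y : Matrix (Fin m) (Fin (m + 1)) R)
    (F : MvPolynomial (Fin (m + 1)) R) (hF : F.IsHomogeneous (m * (q - 1))) :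
    (consRow w y).det ^ (q - 1) * coeff (cst (m + 1) (q - 1)) (detX y ^ (q - 1) * F)
      = (consRow w y).det ^ (q - 1) * coeff (cst m (q - 1)) (lin y F) := by
  have hh : (detX y ^ (q - 1) * F).IsHomogeneous ((m + 1) * (q - 1)) := by
    have := ((detX_isHomogeneous y).pow (q - 1)).mul hF
    convert this using 1
    ring
  rw [← hN1 (m + 1) (consRow w y) _ hh, map_mul, map_pow, lin_detX, mul_pow, ← C_pow, mul_assoc, mul_left_comm,
    coeff_C_mul, cst_succ]
  congr 1
  have h1 : ((cst m (q - 1)).cons (q - 1) : Fin (m + 1) →₀ ℕ) = (cst m (q - 1)).cons 0 + Finsupp.single 0 (q - 1) := by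
    ext i
    refine Fin.cases ?_ (fun j => ?_) i
    · simp
    · simp
  rw [h1, mul_comm, X_pow_eq_monomial, coeff_mul_monomial, mul_one, coeff_lin_cons_zero]

lemma map_lin {S : Type*} [CommRing S] (φ : R →+* S) {m n : ℕ} (g : Matrix (Fin m) (Fin n) R)
    (F : MvPolynomial (Fin n) R) : map φ (lin g F) = lin (g.map φ) (map φ F) := by
  have : (map φ).comp (lin g).toRingHom = (lin (g.map φ)).toRingHom.comp (map φ) := by
    refine MvPolynomial.ringHom_ext (fun r => ?_) (fun j => ?_)
    · simp [lin]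
    · simp [lin]
  exact RingHom.congr_fun this F

lemma map_detX {S : Type*} [CommRing S] (φ : R →+* S) {m : ℕ} (y : Matrix (Fin m) (Fin (m + 1)) R) :
    map φ (detX y) = detX (y.map φ) := by
  rw [detX, detX, RingHom.map_det]
  congr 1
  ext i j
  refine Fin.cases ?_ (fun k => ?_) i
  · simp
  · simp

/-- Both sides of N2 commute with ring homomorphisms. -/
lemma tau_eq_map {S : Type*} [CommRing S] (φ : R →+* S) {q m : ℕ} (y : Matrix (Fin m) (Fin (m + 1)) R)
    (F : MvPolynomial (Fin (m + 1)) R)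
    (h : coeff (cst (m + 1) (q - 1)) (detX y ^ (q - 1) * F) = coeff (cst m (q - 1)) (lin y F)) :
    coeff (cst (m + 1) (q - 1)) (detX (y.map φ) ^ (q - 1) * map φ F) =
      coeff (cst m (q - 1)) (lin (y.map φ) (map φ F)) := by
  rw [← map_detX, ← map_pow, ← map_mul, coeff_map, h, ← map_lin, coeff_map]

/-- **Node N2**: `τ_x(det(x,y)^(q-1) F(x)) = τ_t(F(∑ t_i y_i))` for `F` of degree `m(q-1)`, over every ring of
characteristic `p`. -/
theorem tau_det {p : ℕ} [Fact p.Prime] [CharP R p] {q m : ℕ}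
    (hN1 : TauEquiv (MvPolynomial (Fin (m + 1) × Fin (m + 1)) (ZMod p)) q)
    (y : Matrix (Fin m) (Fin (m + 1)) R)
    (F : MvPolynomial (Fin (m + 1)) R) (hF : F.IsHomogeneous (m * (q - 1))) :
    coeff (cst (m + 1) (q - 1)) (detX y ^ (q - 1) * F) = coeff (cst m (q - 1)) (lin y F) := by
  classical
  -- reduction to monomials
  suffices hmon : ∀ e : Fin (m + 1) →₀ ℕ, e.degree = m * (q - 1) →
      coeff (cst (m + 1) (q - 1)) (detX y ^ (q - 1) * monomial e 1) = coeff (cst m (q - 1)) (lin y (monomial e 1)) by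
    rw [F.as_sum, Finset.mul_sum, map_sum, coeff_sum, coeff_sum]
    refine Finset.sum_congr rfl fun e he => ?_
    have h1 : monomial e (coeff e F) = C (coeff e F) * monomial e (1 : R) := by simp [C_mul_monomial]
    have h2 := hmon e (by rw [Finsupp.degree_eq_weight_one]; exact hF (mem_support_iff.1 he))
    rw [h1, mul_left_comm, coeff_C_mul, h2, map_mul]
    have h3 : lin y (C (coeff e F)) = C (coeff e F) := by simp [lin]
    rw [h3, coeff_C_mul]
  intro e he
  -- the generic case
  let R₀ := MvPolynomial (Fin (m + 1) × Fin (m + 1)) (ZMod p)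
  let G : Matrix (Fin (m + 1)) (Fin (m + 1)) R₀ := Matrix.mvPolynomialX (Fin (m + 1)) (Fin (m + 1)) (ZMod p)
  let y₀ : Matrix (Fin m) (Fin (m + 1)) R₀ := fun i j => G i.succ j
  have hG : consRow (G 0) y₀ = G := by
    ext i j
    refine Fin.cases ?_ (fun k => ?_) i <;> rfl
  have h0 : coeff (cst (m + 1) (q - 1)) (detX y₀ ^ (q - 1) * monomial e 1)
      = coeff (cst m (q - 1)) (lin y₀ (monomial e 1)) := by
    have := det_pow_mul_tau hN1 (G 0) y₀ (monomial e 1) (isHomogeneous_monomial _ he)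
    rw [hG] at this
    exact mul_left_cancel₀ (pow_ne_zero _ (Matrix.det_mvPolynomialX_ne_zero _ _)) this
  let φ : R₀ →+* R := eval₂Hom (ZMod.castHom dvd_rfl R) fun ij => Fin.cases 0 (fun i => y i ij.2) ij.1
  have hy : y₀.map φ = y := by
    ext i j
    exact eval₂_X (ZMod.castHom (dvd_refl p) R)
      (fun ij : Fin (m + 1) × Fin (m + 1) => (Fin.cases 0 (fun i => y i ij.2) ij.1 : R)) (i.succ, j)
  have h1 := tau_eq_map φ y₀ (monomial e 1) h0
  rwa [hy, map_monomial, map_one] at h1

end Groth.Agent.ResProp.EF.K595
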