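import Groth.Agent.ResProp.EF.K595.DetTau

/-!
# 1.4 (B) of departures/helper980.md: the operator `E`, (T1), (T2)

`Fn k R`: polynomial functions of `k + 1` vectors `y_0, .., y_k` in `R^(k+2)`.
-/

set_option autoImplicit false
set_option linter.unusedSectionVars false
open MvPolynomial

namespace Groth.Agent.ResProp.EF.K595

universe u v

variable {k : ℕ} {R : Type u} [CommRing R] {S : Type v} [CommRing S] [Algebra R S]

/-- Functions of `k + 1` vectors in dimension `k + 2`. -/
abbrev Fn (k : ℕ) (R : Type u) [CommRing R] : Type u := MvPolynomial (Fin (k + 1) × Fin (k + 2)) R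

/-- Value at a matrix (rows = vectors). -/
noncomputable def ev (A : Matrix (Fin (k + 1)) (Fin (k + 2)) S) : Fn k R →ₐ[R] S :=
  aeval fun ij => A ij.1 ij.2

@[simp] lemma ev_X (A : Matrix (Fin (k + 1)) (Fin (k + 2)) S) (ij) : ev (R := R) A (X ij) = A ij.1 ij.2 := by
  simp [ev]

/-- The generic matrix. -/
noncomputable def gen (k : ℕ) (R : Type u) [CommRing R] : Matrix (Fin (k + 1)) (Fin (k + 2)) (Fn k R) :=
  Matrix.of fun i j => X (i, j)

/-- The vectors `x, y_0, .., y_(k-1)`. -/
noncomputable def rowsX (A : Matrix (Fin (k + 1)) (Fin (k + 2)) S) :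
    Matrix (Fin (k + 1)) (Fin (k + 2)) (MvPolynomial (Fin (k + 2)) S) :=
  Matrix.of (Fin.cons (fun j => X j) (fun i j => C (A i.castSucc j)))

@[simp] lemma rowsX_zero (A : Matrix (Fin (k + 1)) (Fin (k + 2)) S) (j) : rowsX A 0 j = X j := rfl

@[simp] lemma rowsX_succ (A : Matrix (Fin (k + 1)) (Fin (k + 2)) S) (i : Fin k) (j) :
    rowsX A i.succ j = C (A i.castSucc j) := rfl

/-- The operator `E` by the determinant formula: coefficient of `(x^1 .. x^n)^(q-1)` in
`det(x, y)^(q-1) f(x, y_0, .., y_(k-1))`. -/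
noncomputable def Edet (q : ℕ) (f : Fn k R) : Fn k R :=
  coeff (cst (k + 2) (q - 1)) (detX (gen k R) ^ (q - 1) * ev (rowsX (gen k R)) f)

lemma ev_Edet (q : ℕ) (f : Fn k R) (A : Matrix (Fin (k + 1)) (Fin (k + 2)) S) :
    ev A (Edet q f) = coeff (cst (k + 2) (q - 1)) (detX A ^ (q - 1) * ev (rowsX A) f) := by
  have h1 : (gen k R).map (ev A : Fn k R →ₐ[R] S).toRingHom = A := by
    ext i j
    simp [gen]
  have h2 : (mapAlgHom (σ := Fin (k + 2)) (ev A : Fn k R →ₐ[R] S)).comp (ev (rowsX (gen k R))) = ev (rowsX A) := by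
    refine MvPolynomial.algHom_ext fun ij => ?_
    obtain ⟨i, j⟩ := ij
    refine Fin.cases ?_ (fun i => ?_) i
    · simp
    · simp [gen]
  have h3 : ev A (Edet q f) = coeff (cst (k + 2) (q - 1))
      (map (ev A : Fn k R →ₐ[R] S).toRingHom (detX (gen k R) ^ (q - 1) * ev (rowsX (gen k R)) f)) := by
    rw [coeff_map]; rfl
  rw [h3, map_mul, map_pow, map_detX, h1]
  congr 2
  exact AlgHom.congr_fun h2 f

/-- `y_b ↦ y_b + c y_a` -/
noncomputable def addRow (A : Matrix (Fin (k + 1)) (Fin (k + 2)) S) (a b : Fin (k + 1)) (c : S) :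
    Matrix (Fin (k + 1)) (Fin (k + 2)) S :=
  A.updateRow b (A b + c • A a)

/-- `f` is invariant under `y_b ↦ y_b + c y_a`, over all algebras. -/
def Inv (f : Fn k R) (a b : Fin (k + 1)) : Prop :=
  ∀ (S : Type u) [CommRing S] [Algebra R S] (A : Matrix (Fin (k + 1)) (Fin (k + 2)) S) (c : S),
    ev (addRow A a b c) f = ev A f

lemma detX_addRow {S : Type v} [CommRing S] (A : Matrix (Fin (k + 1)) (Fin (k + 2)) S) {a b : Fin (k + 1)}
    (hab : a ≠ b) (c : S) : detX (addRow A a b c) = detX A := by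
  have h : (Matrix.of (Fin.cons (fun j => X j) (fun i j => C (addRow A a b c i j)) :
      Fin (k + 2) → Fin (k + 2) → MvPolynomial (Fin (k + 2)) S))
      = (Matrix.of (Fin.cons (fun j => X j) (fun i j => C (A i j)) :
        Fin (k + 2) → Fin (k + 2) → MvPolynomial (Fin (k + 2)) S)).updateRow b.succ
        ((Matrix.of (Fin.cons (fun j => X j) (fun i j => C (A i j)) :
          Fin (k + 2) → Fin (k + 2) → MvPolynomial (Fin (k + 2)) S)) b.succ + (C c : MvPolynomial (Fin (k + 2)) S) •
          (Matrix.of (Fin.cons (fun j => X j) (fun i j => C (A i j)) :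
            Fin (k + 2) → Fin (k + 2) → MvPolynomial (Fin (k + 2)) S)) a.succ) := by
    ext1 i j
    refine Fin.cases ?_ (fun i => ?_) i
    · rw [Matrix.updateRow_ne (Fin.succ_ne_zero b).symm]
      simp
    · by_cases hi : i = b
      · subst hi
        simp [addRow, Matrix.updateRow_self]
      · rw [Matrix.updateRow_ne (fun h => hi (Fin.succ_injective _ h))]
        simp [addRow, Matrix.updateRow_ne hi]
  rw [detX, h, Matrix.det_updateRow_add_smul_self _ (fun h => hab (Fin.succ_injective _ h).symm)]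
  rfl

lemma rowsX_addRow_last {S : Type v} [CommRing S] (A : Matrix (Fin (k + 1)) (Fin (k + 2)) S) (a : Fin (k + 1))
    (c : S) : rowsX (addRow A a (Fin.last k) c) = rowsX A := by
  ext1 i j
  refine Fin.cases ?_ (fun i => ?_) i
  · simp
  · rw [rowsX_succ, rowsX_succ, addRow, Matrix.updateRow_ne (Fin.castSucc_ne_last i)]

lemma rowsX_addRow {S : Type v} [CommRing S] (A : Matrix (Fin (k + 1)) (Fin (k + 2)) S) (a b : Fin k)
    (c : S) : rowsX (addRow A a.castSucc b.castSucc c) = addRow (rowsX A) a.succ b.succ (C c) := by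
  ext1 i j
  refine Fin.cases ?_ (fun i => ?_) i
  · rw [rowsX_zero, addRow, Matrix.updateRow_ne (Fin.succ_ne_zero b).symm, rowsX_zero]
  · by_cases hi : i = b
    · subst hi
      simp [addRow, Matrix.updateRow_self]
    · rw [rowsX_succ, addRow, addRow, Matrix.updateRow_ne (fun h => hi (Fin.castSucc_injective _ h)),
        Matrix.updateRow_ne (fun h => hi (Fin.succ_injective _ h)), rowsX_succ]

/-- invariance under all `y_b ↦ y_b + c y_a`, `a < b`, `j ≤ b` -/
def InvFrom (j : ℕ) (f : Fn k R) : Prop := ∀ a b : Fin (k + 1), a < b → j ≤ b.val → Inv f a b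

/-- one step of (T2), over every ring -/
lemma invFrom_Edet {q j : ℕ} {f : Fn k R} (hf : InvFrom (j + 1) f) : InvFrom j (Edet q f) := by
  intro a b hab hj S _ _ A c
  rw [ev_Edet, ev_Edet, detX_addRow A hab.ne]
  congr 2
  rcases Fin.eq_castSucc_or_eq_last b with ⟨b, rfl⟩ | rfl
  · have ha : a.val < k := lt_of_lt_of_le hab (by simp)
    obtain ⟨a, rfl⟩ : ∃ a' : Fin k, a = a'.castSucc := ⟨⟨a.val, ha⟩, rfl⟩
    rw [rowsX_addRow]
    exact hf a.succ b.succ (by simpa using hab) (by simpa using hj) _ _ _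
  · rw [rowsX_addRow_last]

lemma invFrom_iterate {q : ℕ} (f : Fn k R) (i : ℕ) (hi : i ≤ k + 1) : InvFrom (k + 1 - i) ((Edet q)^[i] f) := by
  induction i with
  | zero => intro a b _ h; simp at h; omega
  | succ i ih =>
    rw [Function.iterate_succ_apply']
    refine invFrom_Edet ?_
    have : k + 1 - (i + 1) + 1 = k + 1 - i := by omega
    rw [this]
    exact ih (by omega)

/-- **(T2), over every ring**: `E^k f` is invariant (for every `f`). -/
theorem inv_iterate {q : ℕ} (f : Fn k R) (a b : Fin (k + 1)) (hab : a < b) : Inv ((Edet q)^[k] f) a b :=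
  invFrom_iterate f k (by omega) a b hab (by have := Fin.lt_def.1 hab; omega)

/-- Evaluation of a weighted homogeneous polynomial at weighted homogeneous polynomials. -/
lemma isWeightedHomogeneous_aeval {σ τ : Type*} [Fintype σ] {w : σ → ℕ} {w' : τ → ℕ} {f : MvPolynomial σ R} {d : ℕ}
    (hf : IsWeightedHomogeneous w f d) {B : σ → MvPolynomial τ S} (hB : ∀ i, IsWeightedHomogeneous w' (B i) (w i)) :
    IsWeightedHomogeneous w' (aeval B f) d := by
  classical
  rw [aeval_def, eval₂_eq']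
  refine IsWeightedHomogeneous.sum _ _ _ fun e he => ?_
  have h1 : IsWeightedHomogeneous w' ((algebraMap R (MvPolynomial τ S)) (coeff e f)) 0 := by
    rw [MvPolynomial.algebraMap_apply]
    exact isWeightedHomogeneous_C _ _
  have h2 : IsWeightedHomogeneous w' (∏ i, B i ^ e i) (∑ i, e i * w i) :=
    IsWeightedHomogeneous.prod _ _ _ fun i _ => by simpa using (hB i).pow (e i)
  have h3 : ∑ i, e i * w i = d := by
    have := hf (mem_support_iff.1 he)
    rw [← this, Finsupp.weight_apply, Finsupp.sum_fintype _ _ (by simp)]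
    simp
  rw [← h3]
  simpa using h1.mul h2

/-- weight of the row `i` -/
def rowW (k : ℕ) (i : Fin (k + 1)) : Fin (k + 1) × Fin (k + 2) → ℕ := fun ij => if ij.1 = i then 1 else 0

/-- scaling of one row -/
def scaleRow (A : Matrix (Fin (k + 1)) (Fin (k + 2)) S) (i : Fin (k + 1)) (s : S) :
    Matrix (Fin (k + 1)) (Fin (k + 2)) S :=
  fun i' j => (if i' = i then s else 1) * A i' j

lemma ev_eq_sum (f : Fn k R) (A : Matrix (Fin (k + 1)) (Fin (k + 2)) S) :
    ev A f = ∑ e ∈ f.support, algebraMap R S (coeff e f) * ∏ ij, A ij.1 ij.2 ^ e ij := by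
  rw [ev, aeval_def, eval₂_eq']

lemma prod_scaleRow (A : Matrix (Fin (k + 1)) (Fin (k + 2)) S) (i : Fin (k + 1)) (s : S)
    (e : Fin (k + 1) × Fin (k + 2) →₀ ℕ) :
    ∏ ij, scaleRow A i s ij.1 ij.2 ^ e ij = s ^ (Finsupp.weight (rowW k i) e) * ∏ ij, A ij.1 ij.2 ^ e ij := by
  have h : Finsupp.weight (rowW k i) e = ∑ ij, e ij * rowW k i ij := by
    rw [Finsupp.weight_apply, Finsupp.sum_fintype _ _ (by simp)]
    simp
  rw [h, ← Finset.prod_pow_eq_pow_sum, ← Finset.prod_mul_distrib]
  refine Finset.prod_congr rfl fun ij _ => ?_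
  by_cases hi : ij.1 = i
  · simp [scaleRow, rowW, hi, mul_pow]
  · simp [scaleRow, rowW, hi]

lemma ev_scaleRow {f : Fn k R} {i : Fin (k + 1)} {d : ℕ} (hf : IsWeightedHomogeneous (rowW k i) f d)
    (A : Matrix (Fin (k + 1)) (Fin (k + 2)) S) (s : S) : ev (scaleRow A i s) f = s ^ d * ev A f := by
  rw [ev_eq_sum, ev_eq_sum, Finset.mul_sum]
  refine Finset.sum_congr rfl fun e he => ?_
  rw [prod_scaleRow, hf (mem_support_iff.1 he)]
  ring

lemma isWeightedHomogeneous_of_scale {f : Fn k R} {i : Fin (k + 1)} {d : ℕ}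
    (hf : ∀ (S : Type u) [CommRing S] [Algebra R S] (A : Matrix (Fin (k + 1)) (Fin (k + 2)) S) (s : S),
      ev (scaleRow A i s) f = s ^ d * ev A f) : IsWeightedHomogeneous (rowW k i) f d := by
  classical
  have h := hf (Polynomial (Fn k R)) ((gen k R).map Polynomial.C) Polynomial.X
  rw [ev_eq_sum, ev_eq_sum] at h
  have hp : ∀ e : Fin (k + 1) × Fin (k + 2) →₀ ℕ,
      (∏ ij : Fin (k + 1) × Fin (k + 2), ((gen k R).map Polynomial.C) ij.1 ij.2 ^ e ij : Polynomial (Fn k R))
        = Polynomial.C (monomial e 1) := by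
    intro e
    rw [MvPolynomial.monomial_eq, Finsupp.prod_fintype _ _ (by simp)]
    simp [gen, map_prod]
  have hR : ∀ r : R, algebraMap R (Polynomial (Fn k R)) r = Polynomial.C (C r) := fun r => rfl
  simp only [prod_scaleRow, hp, hR] at h
  have h2 := congrArg (fun P => Polynomial.coeff P d) h
  simp only [Polynomial.finsetSum_coeff] at h2
  rw [Polynomial.coeff_X_pow_mul'] at h2
  simp only [le_refl, if_true, Nat.sub_self, Polynomial.finsetSum_coeff] at h2
  have h3 : ∀ e : Fin (k + 1) × Fin (k + 2) →₀ ℕ,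
      (Polynomial.C (C (coeff e f)) * (Polynomial.X ^ (Finsupp.weight (rowW k i) e) *
        Polynomial.C (monomial e (1 : R)))).coeff d
      = if Finsupp.weight (rowW k i) e = d then monomial e (coeff e f) else 0 := by
    intro e
    rw [Polynomial.X_pow_mul_C, ← mul_assoc, ← Polynomial.C_mul, C_mul_monomial, mul_one, Polynomial.coeff_C_mul_X_pow]
    simp [eq_comm]
  have h4 : ∀ e : Fin (k + 1) × Fin (k + 2) →₀ ℕ,
      (Polynomial.C (C (coeff e f)) * Polynomial.C (monomial e (1 : R))).coeff 0 = monomial e (coeff e f) := by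
    intro e
    rw [← Polynomial.C_mul, C_mul_monomial, mul_one, Polynomial.coeff_C_zero]
  simp only [h3, h4] at h2
  rw [← Finset.sum_filter, ← f.as_sum] at h2
  intro e he
  by_contra hne
  rw [← h2, coeff_sum] at he
  apply he
  refine Finset.sum_eq_zero fun e' he' => ?_
  rw [coeff_monomial, if_neg]
  rintro rfl
  exact hne (Finset.mem_filter.1 he').2

lemma detX_scaleRow {S : Type v} [CommRing S] (A : Matrix (Fin (k + 1)) (Fin (k + 2)) S) (i : Fin (k + 1))
    (s : S) : detX (scaleRow A i s) = C s * detX A := by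
  have h : (Matrix.of (Fin.cons (fun j => X j) (fun i' j => C (scaleRow A i s i' j)) :
      Fin (k + 2) → Fin (k + 2) → MvPolynomial (Fin (k + 2)) S))
      = (Matrix.of (Fin.cons (fun j => X j) (fun i j => C (A i j)) :
        Fin (k + 2) → Fin (k + 2) → MvPolynomial (Fin (k + 2)) S)).updateRow i.succ
        ((C s : MvPolynomial (Fin (k + 2)) S) •
          (Matrix.of (Fin.cons (fun j => X j) (fun i j => C (A i j)) :
            Fin (k + 2) → Fin (k + 2) → MvPolynomial (Fin (k + 2)) S)) i.succ) := by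
    ext1 i' j
    refine Fin.cases ?_ (fun i' => ?_) i'
    · rw [Matrix.updateRow_ne (Fin.succ_ne_zero i).symm]
      simp
    · by_cases hi : i' = i
      · subst hi
        simp [scaleRow, Matrix.updateRow_self]
      · rw [Matrix.updateRow_ne (fun h => hi (Fin.succ_injective _ h))]
        simp [scaleRow, hi]
  rw [detX, h, Matrix.det_updateRow_smul, Matrix.updateRow_eq_self]
  rfl

lemma rowsX_scaleRow_last {S : Type v} [CommRing S] (A : Matrix (Fin (k + 1)) (Fin (k + 2)) S)
    (s : S) : rowsX (scaleRow A (Fin.last k) s) = rowsX A := by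
  ext1 i j
  refine Fin.cases ?_ (fun i => ?_) i
  · simp
  · rw [rowsX_succ, rowsX_succ, scaleRow, if_neg (Fin.castSucc_ne_last i), one_mul]

lemma rowsX_scaleRow {S : Type v} [CommRing S] (A : Matrix (Fin (k + 1)) (Fin (k + 2)) S) (i : Fin k)
    (s : S) : rowsX (scaleRow A i.castSucc s) = scaleRow (rowsX A) i.succ (C s) := by
  ext1 i' j
  refine Fin.cases ?_ (fun i' => ?_) i'
  · rw [rowsX_zero, scaleRow, if_neg (Fin.succ_ne_zero i).symm, rowsX_zero, one_mul]
  · rw [rowsX_succ, scaleRow, scaleRow, rowsX_succ]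
    by_cases hi : i' = i
    · subst hi; simp
    · simp [hi]

/-- the multidegree `(k + 1 - i)(q - 1)` in `y_i` -/
def MultiHom (q : ℕ) (f : Fn k R) : Prop :=
  ∀ i : Fin (k + 1), IsWeightedHomogeneous (rowW k i) f ((k + 1 - i.val) * (q - 1))

lemma MultiHom.Edet' {q : ℕ} {f : Fn k R} (hf : MultiHom q f) : MultiHom q (Edet q f) := by
  intro i
  refine isWeightedHomogeneous_of_scale fun S _ _ A s => ?_
  rw [ev_Edet, ev_Edet, detX_scaleRow, mul_pow, ← C_pow]
  rcases Fin.eq_castSucc_or_eq_last i with ⟨i, rfl⟩ | rfl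
  · rw [rowsX_scaleRow, ev_scaleRow (hf i.succ), mul_mul_mul_comm, ← C_pow, ← C_mul, ← pow_add, coeff_C_mul]
    congr 2
    have := i.2
    simp only [Fin.val_succ, Fin.val_castSucc]
    have h : k + 1 - i.val = (k + 1 - (i.val + 1)) + 1 := by omega
    rw [h]; ring
  · rw [rowsX_scaleRow_last, mul_assoc, coeff_C_mul]
    congr 2
    simp

/-- `E` by the coefficient formula (T1) -/
noncomputable def Etau (q : ℕ) (f : Fn k R) : Fn k R :=
  coeff (cst (k + 1) (q - 1)) (lin (gen k R) (ev (rowsX (gen k R)) f))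

lemma isHomogeneous_ev_rowsX {f : Fn k R} {d : ℕ} (hf : IsWeightedHomogeneous (rowW k 0) f d)
    (A : Matrix (Fin (k + 1)) (Fin (k + 2)) S) : (ev (rowsX A) f).IsHomogeneous d := by
  refine isWeightedHomogeneous_aeval hf fun ij => ?_
  obtain ⟨i, j⟩ := ij
  refine Fin.cases ?_ (fun i => ?_) i
  · have h : rowW k 0 (0, j) = 1 := by simp [rowW]
    rw [h]
    exact isHomogeneous_X S j
  · have h : rowW k 0 (i.succ, j) = 0 := by simp [rowW, Fin.succ_ne_zero]
    rw [h]
    exact isHomogeneous_C (Fin (k + 2)) (A i.castSucc j)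

/-- **(T1)**, char `p`. -/
theorem Edet_eq_Etau {p : ℕ} [Fact p.Prime] [CharP R p] {q : ℕ}
    (hN1 : TauEquiv (MvPolynomial (Fin (k + 2) × Fin (k + 2)) (ZMod p)) q) {f : Fn k R}
    (hf : IsWeightedHomogeneous (rowW k 0) f ((k + 1) * (q - 1))) : Edet q f = Etau q f :=
  tau_det (p := p) hN1 _ _ (isHomogeneous_ev_rowsX hf _)

lemma ev_Etau (q : ℕ) (f : Fn k R) (A : Matrix (Fin (k + 1)) (Fin (k + 2)) S) :
    ev A (Etau q f) = coeff (cst (k + 1) (q - 1)) (lin A (ev (rowsX A) f)) := by
  have h1 : (gen k R).map (ev A : Fn k R →ₐ[R] S).toRingHom = A := by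
    ext i j
    simp [gen]
  have h2 : (mapAlgHom (σ := Fin (k + 2)) (ev A : Fn k R →ₐ[R] S)).comp (ev (rowsX (gen k R))) = ev (rowsX A) := by
    refine MvPolynomial.algHom_ext fun ij => ?_
    obtain ⟨i, j⟩ := ij
    refine Fin.cases ?_ (fun i => ?_) i
    · simp
    · simp [gen]
  have h3 : ev A (Etau q f) = coeff (cst (k + 1) (q - 1))
      (map (ev A : Fn k R →ₐ[R] S).toRingHom (lin (gen k R) (ev (rowsX (gen k R)) f))) := by
    rw [coeff_map]; rfl
  rw [h3, map_lin, h1]
  congr 2
  exact AlgHom.congr_fun h2 f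

end Groth.Agent.ResProp.EF.K595
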