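import Groth.Agent.ResProp.EF.K595.Sat
import Groth.Agent.ResProp.EF.K959.EQ
import Groth.Agent.ResProp.EF.K676.T3
import Groth.Agent.ResProp.EF.K373.T2

/-!
# Congruences modulo `p` of the retraction `rr`, over every ring on which `p` is regular
-/

set_option autoImplicit false
set_option linter.unusedSectionVars false
open MvPolynomial

namespace Groth.Agent.ResProp.EF.K595

universe u

variable {R : Type u} [CommRing R]

/-- reduction modulo `p` is zero: divisible by `p`, and the quotient is in `T` -/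
theorem exists_smul_isT {m q : ℕ} {p : R} (hp : IsSMulRegular R p) {f : K65.P m (m + 1) R} (hf : K65.IsT q f)
    (h0 : map (Ideal.Quotient.mk (Ideal.span {p})) f = 0) :
    ∃ y : K65.P m (m + 1) R, K65.IsT q y ∧ f = p • y := by
  have h1 : C p ∣ f := by
    rw [MvPolynomial.C_dvd_iff_map_hom_eq_zero (Ideal.Quotient.mk (Ideal.span {p})) p]
    · exact h0
    · intro r
      rw [Ideal.Quotient.eq_zero_iff_mem, Ideal.mem_span_singleton]
  obtain ⟨y, hy⟩ := h1
  rw [C_mul'] at hy
  refine ⟨y, isT_of_smul hp ?_, hy⟩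
  rwa [← hy]

lemma isT_sub {m q : ℕ} {f g : K65.P m (m + 1) R} (hf : K65.IsT q f) (hg : K65.IsT q g) : K65.IsT q (f - g) :=
  (K959.Tsub m R q).sub_mem hf hg

lemma isT_C_mul {m q : ℕ} {f : K65.P m (m + 1) R} (c : R) (hf : K65.IsT q f) : K65.IsT q (C c * f) := by
  rw [C_mul']
  exact (K959.Tsub m R q).smul_mem c hf

/-- the quotient by `p` is trivial or has characteristic `p` -/
lemma charP_or (p : ℕ) [Fact p.Prime] (S : Type u) [CommRing S] (h : (p : S) = 0) : Subsingleton S ∨ CharP S p := by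
  rcases subsingleton_or_nontrivial S with h' | h'
  · exact Or.inl h'
  · exact Or.inr ((CharP.charP_iff_prime_eq_zero Fact.out).2 h)

/-- `R(det^(q-1), t) = t` modulo `p T` -/
theorem exists_rr_det (p : ℕ) [Fact p.Prime] (hp : IsSMulRegular R (p : R)) (m s : ℕ) {t : K65.P m (m + 1) R}
    (ht : K65.IsT (p ^ s) t) : ∃ y : K65.P m (m + 1) R, K65.IsT (p ^ s) y ∧
      K65.rr (p ^ s) ((K65.gen (m + 1) (m + 1) R).det ^ (p ^ s - 1)) t - t = (p : R) • y := by
  refine exists_smul_isT hp (isT_sub (K959.rr_isT K373.t2 _ _ _) ht) ?_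
  have h0 : ((p : ℕ) : R ⧸ Ideal.span {(p : R)}) = 0 := by
    have : (Ideal.Quotient.mk (Ideal.span {(p : R)})) (p : R) = 0 := by
      rw [Ideal.Quotient.eq_zero_iff_mem]; exact Ideal.subset_span rfl
    rwa [map_natCast] at this
  rcases charP_or p _ h0 with h | h
  · exact Subsingleton.elim _ _
  · rw [map_sub, K959.map_rr, map_pow, K959.map_det_gen, K959.rr_det_of_isT (T1 (p := p)) K676.T3_holds s (K959.isT_map _ ht),
      sub_self]

/-- `R(g b, g t) = det(g)^(q-1) g R(b, t)` modulo `p T` -/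
theorem exists_rr_act (p : ℕ) [Fact p.Prime] (hp : IsSMulRegular R (p : R)) (m s : ℕ) (b : K65.P (m + 1) (m + 1) R)
    (t : K65.P m (m + 1) R) (g : Matrix (Fin (m + 1)) (Fin (m + 1)) R) :
    ∃ y : K65.P m (m + 1) R, K65.IsT (p ^ s) y ∧
      K65.rr (p ^ s) (K65.act g b) (K65.act g t) - C (g.det ^ (p ^ s - 1)) * K65.act g (K65.rr (p ^ s) b t) =
        (p : R) • y := by
  refine exists_smul_isT hp (isT_sub (K959.rr_isT K373.t2 _ _ _)
    (isT_C_mul _ (K959.isT_act (K959.rr_isT K373.t2 _ _ _) g))) ?_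
  have h0 : ((p : ℕ) : R ⧸ Ideal.span {(p : R)}) = 0 := by
    have : (Ideal.Quotient.mk (Ideal.span {(p : R)})) (p : R) = 0 := by
      rw [Ideal.Quotient.eq_zero_iff_mem]; exact Ideal.subset_span rfl
    rwa [map_natCast] at this
  rcases charP_or p _ h0 with h | h
  · exact Subsingleton.elim _ _
  · have hd : (Ideal.Quotient.mk (Ideal.span {(p : R)})) (g.det ^ (p ^ s - 1)) =
        (g.map (Ideal.Quotient.mk (Ideal.span {(p : R)}))).det ^ (p ^ s - 1) := by
      rw [map_pow, RingHom.map_det, RingHom.mapMatrix_apply]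
    rw [map_sub, K959.map_rr, K959.map_act, K959.map_act, K959.rr_act (T0 (p := p)) (T1 (p := p)), map_mul, map_C,
      K959.map_act, K959.map_rr, hd, sub_self]

end Groth.Agent.ResProp.EF.K595
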